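import Mathlib

/-!
# Sylow 2-subgroups of symmetric and alternating groups are self-normalizing (helper799)

* `exists_conj_mem` : a `p`-element of an overgroup `K` of a Sylow subgroup `P` is `K`-conjugate into `P`;
* `perm_eq_one` : an element of odd order normalizing a Sylow `2`-subgroup of `Perm α` is trivial;
* `normalizer_perm` : a Sylow `2`-subgroup of `Perm α` is its own normalizer;
* `normalizer_alt` : a Sylow `2`-subgroup of `alternatingGroup α`, `6 ≤ |α|`, is its own normalizer.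
-/

set_option autoImplicit false
set_option linter.unusedSectionVars false
set_option linter.style.haveILetI false

namespace Cfsg.Agent.H799.SymSyl

open Equiv Subgroup

section General

variable {G : Type*} [Group G] {p : ℕ}

/-- A `p`-element of an overgroup `K` of a Sylow `p`-subgroup `P` is `K`-conjugate to an element of `P`. -/
theorem exists_conj_mem [Finite G] [Fact p.Prime] (P : Sylow p G) {K : Subgroup G}
    (hPK : (P : Subgroup G) ≤ K) {k : G} (hk : k ∈ K) (hkp : IsPGroup p (zpowers k)) :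
    ∃ x ∈ K, x * k * x⁻¹ ∈ (P : Subgroup G) := by
  have h1 : IsPGroup p (zpowers (⟨k, hk⟩ : K)) := by
    rintro ⟨y, hy⟩
    obtain ⟨n, rfl⟩ := mem_zpowers_iff.1 hy
    obtain ⟨m, hm⟩ := hkp ⟨k ^ n, n, rfl⟩
    refine ⟨m, Subtype.ext (Subtype.ext ?_)⟩
    have h2 : (k ^ n) ^ p ^ m = 1 := congrArg Subtype.val hm
    show (k ^ n) ^ p ^ m = 1
    exact h2
  obtain ⟨Q, hQ⟩ := h1.exists_le_sylow
  obtain ⟨x, hx⟩ := MulAction.exists_smul_eq K Q (P.subtype hPK)
  refine ⟨x, x.2, ?_⟩
  have h3 : x * ⟨k, hk⟩ * x⁻¹ ∈ (P.subtype hPK : Subgroup K) := by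
    rw [← hx]
    exact ⟨⟨k, hk⟩, hQ (mem_zpowers _), rfl⟩
  exact h3

/-- an element normalizing a Sylow subgroup and having `p`-power order lies in it -/
theorem mem_of_normalizer [Fact p.Prime] (P : Sylow p G) {g : G} (hg : g ∈ normalizer ((P : Subgroup G) : Set G))
    (hgp : IsPGroup p (zpowers g)) : g ∈ (P : Subgroup G) := by
  have h := IsPGroup.inf_normalizer_sylow hgp P
  have h1 : g ∈ zpowers g ⊓ normalizer ((P : Subgroup G) : Set G) := ⟨mem_zpowers g, hg⟩
  have h2 : g ∈ zpowers g ⊓ (P : Subgroup G) := h ▸ h1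
  exact h2.2

/-- if the elements of order prime to `p` normalizing a Sylow `p`-subgroup are trivial, then it is self-normalizing -/
theorem normalizer_le_of [Finite G] [Fact p.Prime] (P : Sylow p G)
    (h : ∀ g ∈ normalizer ((P : Subgroup G) : Set G), Nat.Coprime (orderOf g) p → g = 1) :
    normalizer ((P : Subgroup G) : Set G) ≤ (P : Subgroup G) := by
  intro g hg
  obtain ⟨k, m, hm, hkm⟩ := Nat.exists_eq_pow_mul_and_not_dvd (orderOf_pos g).ne' p (Fact.out : p.Prime).ne_one
  have h1 : g ^ p ^ k = 1 := by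
    refine h _ (pow_mem hg _) ?_
    have h2 : orderOf (g ^ p ^ k) = m := by
      rw [orderOf_pow, hkm, Nat.gcd_eq_right (Dvd.intro _ rfl), Nat.mul_div_cancel_left _ (pow_pos (Fact.out : p.Prime).pos k)]
    rw [h2]
    exact ((Nat.Prime.coprime_iff_not_dvd Fact.out).2 hm).symm
  refine mem_of_normalizer P hg ?_
  rintro ⟨y, hy⟩
  obtain ⟨n, rfl⟩ := mem_zpowers_iff.1 hy
  refine ⟨k, Subtype.ext ?_⟩
  show (g ^ n) ^ p ^ k = 1
  rw [← zpow_natCast, ← zpow_mul, mul_comm, zpow_mul, zpow_natCast, h1, one_zpow]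

end General

section Swaps

variable {α : Type*} [Fintype α] [DecidableEq α]

theorem isPGroup_swap (a b : α) : IsPGroup 2 (zpowers (swap a b)) := by
  rintro ⟨y, hy⟩
  obtain ⟨n, rfl⟩ := mem_zpowers_iff.1 hy
  refine ⟨1, Subtype.ext ?_⟩
  show ((swap a b) ^ n) ^ 2 ^ 1 = 1
  rw [← zpow_natCast, ← zpow_mul, mul_comm, zpow_mul, zpow_natCast]
  simp [pow_two]

theorem conj_swap (σ : Perm α) (a b : α) : σ * swap a b * σ⁻¹ = swap (σ a) (σ b) := by
  rw [mul_swap_eq_swap_mul, mul_inv_cancel_right]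

/-- two transpositions of a `2`-group with a common point are equal -/
theorem eq_of_swap_mem {Q : Subgroup (Perm α)} (hQ : IsPGroup 2 Q) {a b c : α} (hab : a ≠ b) (hac : a ≠ c)
    (h1 : swap a b ∈ Q) (h2 : swap a c ∈ Q) : b = c := by
  by_contra hbc
  have h3 := (Equiv.Perm.isThreeCycle_swap_mul_swap_same hab hac hbc).orderOf
  obtain ⟨k, hk⟩ := (IsPGroup.iff_orderOf.1 hQ) ⟨_, mul_mem h1 h2⟩
  rw [← Subgroup.orderOf_coe] at hk
  have h4 : orderOf (swap a b * swap a c) = 2 ^ k := hk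
  rw [h3] at h4
  have h5 : 3 ∣ 2 ^ k := ⟨1, by rw [← h4]⟩
  have h6 := (Nat.Prime.dvd_of_dvd_pow (by norm_num) h5)
  omega

/-- unpaired points -/
def Unp (Q : Subgroup (Perm α)) (a : α) : Prop := ∀ c, c ≠ a → swap a c ∉ Q

theorem unp_conj {Q : Subgroup (Perm α)} {g : Perm α} (hg : g ∈ normalizer (Q : Set (Perm α))) {a : α} (h : Unp Q a) :
    Unp Q (g a) := by
  intro c hc hm
  have h1 := (mem_normalizer_iff.1 (inv_mem hg) _).1 hm
  rw [conj_swap] at h1
  have h2 : g⁻¹ (g a) = a := by simp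
  rw [h2] at h1
  refine h (g⁻¹ c) ?_ h1
  intro h3
  apply hc
  rw [← h3]
  simp

/-- a Sylow `2`-subgroup of `Perm α` leaves at most one point unpaired -/
theorem unp_unique (P : Sylow 2 (Perm α)) {a b : α} (ha : Unp (P : Subgroup (Perm α)) a)
    (hb : Unp (P : Subgroup (Perm α)) b) : a = b := by
  haveI : Fact (Nat.Prime 2) := ⟨Nat.prime_two⟩
  by_contra hab
  set Q : Subgroup (Perm α) := (P : Subgroup (Perm α)) with hQ
  let K : Subgroup (Perm α) :=
    { carrier := {σ | ∀ x, Unp Q (σ x) ↔ Unp Q x}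
      mul_mem' := by
        intro σ τ hσ hτ x
        exact (hσ (τ x)).trans (hτ x)
      one_mem' := fun x => Iff.rfl
      inv_mem' := by
        intro σ hσ x
        have := hσ (σ⁻¹ x)
        rw [← this]
        simp }
  have hPK : (P : Subgroup (Perm α)) ≤ K := by
    intro σ hσ x
    have h1 : σ ∈ normalizer (Q : Set (Perm α)) := le_normalizer hσ
    constructor
    · intro h
      have := unp_conj (inv_mem h1) h
      simpa using this
    · exact unp_conj h1
  have hsw : swap a b ∈ K := by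
    intro x
    by_cases hx : x = a
    · rw [hx, swap_apply_left]
      exact ⟨fun _ => ha, fun _ => hb⟩
    · by_cases hx' : x = b
      · rw [hx', swap_apply_right]
        exact ⟨fun _ => hb, fun _ => ha⟩
      · rw [swap_apply_of_ne_of_ne hx hx']
  obtain ⟨x, hx, hm⟩ := exists_conj_mem P hPK hsw (isPGroup_swap a b)
  rw [conj_swap] at hm
  have h1 : Unp Q (x a) := (hx a).2 ha
  exact h1 (x b) (fun h => hab (x.injective h).symm) hm

theorem exists_pair (P : Sylow 2 (Perm α)) {a b : α} (hab : a ≠ b) :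
    (∃ c, c ≠ a ∧ swap a c ∈ (P : Subgroup (Perm α))) ∨ (∃ c, c ≠ b ∧ swap b c ∈ (P : Subgroup (Perm α))) := by
  by_contra h
  push Not at h
  exact hab (unp_unique P (fun c hc => h.1 c hc) (fun c hc => h.2 c hc))

end Swaps

/-! ### Symmetric groups -/

section Sym

variable {α : Type*} [Fintype α] [DecidableEq α]

/-- the transpositions in `Q` -/
def Tr (Q : Subgroup (Perm α)) : Set (Perm α) := {t | t ∈ Q ∧ t.IsSwap}

theorem mem_normalizer_tr {Q : Subgroup (Perm α)} {g : Perm α} (hg : g ∈ normalizer (Q : Set (Perm α))) :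
    g ∈ normalizer (Tr Q) := by
  have key : ∀ {k : Perm α}, k ∈ normalizer (Q : Set (Perm α)) → ∀ t ∈ Tr Q, k * t * k⁻¹ ∈ Tr Q := by
    rintro k hk _ ⟨ht, a, b, hab, rfl⟩
    refine ⟨(mem_normalizer_iff.1 hk _).1 ht, k a, k b, fun h => hab (k.injective h), conj_swap k a b⟩
  rw [mem_set_normalizer_iff]
  intro t
  refine ⟨key hg t, fun h => ?_⟩
  have := key (inv_mem hg) _ h
  have e : g⁻¹ * (g * t * g⁻¹) * g⁻¹⁻¹ = t := by group
  rwa [e] at this

/-- the action of the normalizer of the set of transpositions -/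
def act (T : Set (Perm α)) : normalizer T →* Perm T where
  toFun g :=
    { toFun := fun t => ⟨g * t * (g : Perm α)⁻¹, (mem_set_normalizer_iff.1 g.2 _).1 t.2⟩
      invFun := fun t => ⟨(g : Perm α)⁻¹ * t * g, by
        have := (mem_set_normalizer_iff.1 (inv_mem g.2) _).1 t.2
        rwa [inv_inv] at this⟩
      left_inv := fun t => Subtype.ext (by show (g : Perm α)⁻¹ * (g * t * (g : Perm α)⁻¹) * g = t; group)
      right_inv := fun t => Subtype.ext (by show (g : Perm α) * ((g : Perm α)⁻¹ * t * g) * (g : Perm α)⁻¹ = t; group) }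
  map_one' := by
    ext1 t
    apply Subtype.ext
    show ((1 : normalizer T) : Perm α) * t * ((1 : normalizer T) : Perm α)⁻¹ = t
    simp
  map_mul' g h := by
    ext1 t
    apply Subtype.ext
    show ((g * h : normalizer T) : Perm α) * t * ((g * h : normalizer T) : Perm α)⁻¹ =
      g * (h * t * (h : Perm α)⁻¹) * (g : Perm α)⁻¹
    rw [Subgroup.coe_mul]
    group

theorem act_apply {T : Set (Perm α)} (g : normalizer T) (t : T) :
    ((act T g t : T) : Perm α) = g * t * (g : Perm α)⁻¹ := rfl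

theorem act_surjective {Q : Subgroup (Perm α)} (hQ : IsPGroup 2 Q) [Fintype (Tr Q)] [DecidableEq (Tr Q)] :
    Function.Surjective (act (Tr Q)) := by
  rw [← MonoidHom.range_eq_top, eq_top_iff, ← Equiv.Perm.closure_isSwap, closure_le]
  rintro _ ⟨⟨t₁, ht₁⟩, ⟨t₂, ht₂⟩, hne, rfl⟩
  obtain ⟨h1, a, b, hab, rfl⟩ := id ht₁
  obtain ⟨h2, c, d, hcd, rfl⟩ := id ht₂
  have hne' : swap a b ≠ swap c d := fun h => hne (Subtype.ext h)
  have hac : a ≠ c := by
    rintro rfl
    exact hne' (by rw [eq_of_swap_mem hQ hab hcd h1 h2])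
  have had : a ≠ d := by
    rintro rfl
    rw [swap_comm c] at h2 hne'
    exact hne' (by rw [eq_of_swap_mem hQ hab hcd.symm h1 h2])
  have hbc : b ≠ c := by
    rintro rfl
    rw [swap_comm a] at h1 hne'
    exact hne' (by rw [eq_of_swap_mem hQ hab.symm hcd h1 h2])
  have hbd : b ≠ d := by
    rintro rfl
    rw [swap_comm a] at h1 hne'
    rw [swap_comm c] at h2 hne'
    exact hne' (by rw [eq_of_swap_mem hQ hab.symm hcd.symm h1 h2])
  set k : Perm α := swap a c * swap b d with hk
  have ka : k a = c := by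
    rw [hk, Perm.mul_apply, swap_apply_of_ne_of_ne hab had, swap_apply_left]
  have kb : k b = d := by
    rw [hk, Perm.mul_apply, swap_apply_left, swap_apply_of_ne_of_ne had.symm hcd.symm]
  have kc : k c = a := by
    rw [hk, Perm.mul_apply, swap_apply_of_ne_of_ne hbc.symm hcd, swap_apply_right]
  have kd : k d = b := by
    rw [hk, Perm.mul_apply, swap_apply_right, swap_apply_of_ne_of_ne hab.symm hbc]
  have kx : ∀ x, x ≠ a → x ≠ b → x ≠ c → x ≠ d → k x = x := by
    intro x hxa hxb hxc hxd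
    rw [hk, Perm.mul_apply, swap_apply_of_ne_of_ne hxb hxd, swap_apply_of_ne_of_ne hxa hxc]
  have hc1 : k * swap a b * k⁻¹ = swap c d := by rw [conj_swap, ka, kb]
  have hc2 : k * swap c d * k⁻¹ = swap a b := by rw [conj_swap, kc, kd]
  -- the other transpositions
  have hc3 : ∀ t ∈ Tr Q, t ≠ swap a b → t ≠ swap c d → k * t * k⁻¹ = t := by
    rintro _ ⟨ht, x, y, hxy, rfl⟩ hn1 hn2
    have gen : ∀ {u v : α}, u ≠ v → swap u v ∈ Q → swap x y ≠ swap u v → x ≠ u ∧ x ≠ v ∧ y ≠ u ∧ y ≠ v := by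
      intro u v huv hm hn
      refine ⟨?_, ?_, ?_, ?_⟩
      · rintro rfl
        exact hn (by rw [eq_of_swap_mem hQ hxy huv ht hm])
      · rintro rfl
        rw [swap_comm u] at hm hn
        exact hn (by rw [eq_of_swap_mem hQ hxy huv.symm ht hm])
      · rintro rfl
        rw [swap_comm x] at ht hn
        exact hn (by rw [eq_of_swap_mem hQ hxy.symm huv ht hm])
      · rintro rfl
        rw [swap_comm x] at ht hn
        rw [swap_comm u] at hm hn
        exact hn (by rw [eq_of_swap_mem hQ hxy.symm huv.symm ht hm])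
    obtain ⟨g1, g2, g3, g4⟩ := gen hab h1 hn1
    obtain ⟨g5, g6, g7, g8⟩ := gen hcd h2 hn2
    rw [conj_swap, kx x g1 g2 g5 g6, kx y g3 g4 g7 g8]
  have hkk : k⁻¹ = k := by
    ext x
    rw [Perm.inv_eq_iff_eq]
    by_cases h1 : x = a
    · rw [h1, ka, kc]
    by_cases h2 : x = b
    · rw [h2, kb, kd]
    by_cases h3 : x = c
    · rw [h3, kc, ka]
    by_cases h4 : x = d
    · rw [h4, kd, kb]
    rw [kx x h1 h2 h3 h4, kx x h1 h2 h3 h4]
  have hmem : ∀ t ∈ Tr Q, k * t * k⁻¹ ∈ Tr Q := by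
    intro t ht
    by_cases e1 : t = swap a b
    · rw [e1, hc1]; exact ht₂
    by_cases e2 : t = swap c d
    · rw [e2, hc2]; exact ht₁
    rw [hc3 t ht e1 e2]; exact ht
  have hkN : k ∈ normalizer (Tr Q) := by
    rw [mem_set_normalizer_iff]
    intro t
    refine ⟨hmem t, fun h => ?_⟩
    have := hmem _ h
    have e : k * (k * t * k⁻¹) * k⁻¹ = (k * k) * t * (k * k)⁻¹ := by group
    have e2 : k * k = 1 := by nth_rewrite 1 [← hkk]; exact inv_mul_cancel k
    rwa [e, e2, one_mul, inv_one, mul_one] at this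
  refine ⟨⟨k, hkN⟩, ?_⟩
  ext1 t
  apply Subtype.ext
  rw [act_apply]
  show k * (t : Perm α) * k⁻¹ = _
  by_cases e1 : t = ⟨swap a b, ht₁⟩
  · rw [e1, swap_apply_left]; exact hc1
  by_cases e2 : t = ⟨swap c d, ht₂⟩
  · rw [e2, swap_apply_right]; exact hc2
  rw [swap_apply_of_ne_of_ne e1 e2]
  exact hc3 t t.2 (fun h => e1 (Subtype.ext h)) (fun h => e2 (Subtype.ext h))

theorem card_tr_lt {Q : Subgroup (Perm α)} (hQ : IsPGroup 2 Q) [Fintype (Tr Q)] (hne : (Tr Q).Nonempty) :
    Fintype.card (Tr Q) < Fintype.card α := by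
  have h1 : ∀ t : Tr Q, ∃ ab : α × α, ab.1 ≠ ab.2 ∧ (t : Perm α) = swap ab.1 ab.2 := by
    rintro ⟨t, ht, a, b, hab, rfl⟩
    exact ⟨(a, b), hab, rfl⟩
  choose f hf1 hf2 using h1
  have hmem : ∀ t : Tr Q, swap (f t).1 (f t).2 ∈ Q := fun t => by rw [← hf2 t]; exact t.2.1
  refine Fintype.card_lt_of_injective_not_surjective (fun t => (f t).1) ?_ ?_
  · intro s t hst
    have hst' : (f s).1 = (f t).1 := hst
    have h2 := hmem s
    rw [hst'] at h2
    have h3 := eq_of_swap_mem hQ (by rw [← hst']; exact hf1 s) (hf1 t) h2 (hmem t)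
    apply Subtype.ext
    rw [hf2 s, hf2 t, hst', h3]
  · intro hs
    obtain ⟨t₀, ht₀⟩ := hne
    obtain ⟨t, ht⟩ := hs (f ⟨t₀, ht₀⟩).2
    have ht' : (f t).1 = (f ⟨t₀, ht₀⟩).2 := ht
    have h2 := hmem t
    have h3 := hmem ⟨t₀, ht₀⟩
    rw [swap_comm] at h3
    rw [ht'] at h2
    have h4 := eq_of_swap_mem hQ (by rw [← ht']; exact hf1 t) (hf1 _).symm h2 h3
    have h5 : t = ⟨t₀, ht₀⟩ := by
      apply Subtype.ext
      rw [hf2 t, hf2 ⟨t₀, ht₀⟩, ht', h4, swap_comm]
    rw [h5] at ht'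
    exact hf1 _ ht'

theorem perm_eq_one_aux (n : ℕ) : ∀ (α : Type*) [Fintype α] [DecidableEq α], Fintype.card α = n →
    ∀ (P : Sylow 2 (Perm α)) (g : Perm α), g ∈ normalizer ((P : Subgroup (Perm α)) : Set (Perm α)) →
      Odd (orderOf g) → g = 1 := by
  haveI : Fact (Nat.Prime 2) := ⟨Nat.prime_two⟩
  induction n using Nat.strong_induction_on with
  | _ n ih =>
  intro α _ _ hcard P g hg hodd
  classical
  set Q : Subgroup (Perm α) := (P : Subgroup (Perm α)) with hQdef
  have hQ : IsPGroup 2 Q := P.2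
  -- `g` has square one as soon as it commutes with all transpositions
  suffices h : ∀ t ∈ Tr Q, g * t * g⁻¹ = t by
    have hsq : g ^ 2 = 1 := by
      ext x
      rw [pow_two, Perm.mul_apply, Perm.one_apply]
      by_cases hx : Unp Q x
      · have h1 := unp_unique P hx (unp_conj hg hx)
        rw [← h1, ← h1]
      · simp only [Unp, not_forall, not_not] at hx
        obtain ⟨y, hyx, hm⟩ := hx
        have h1 := h (swap x y) ⟨hm, x, y, hyx.symm, rfl⟩
        rw [conj_swap] at h1
        have h2 : swap (g x) (g y) (g x) = g y := swap_apply_left _ _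
        rw [h1] at h2
        by_cases h3 : g x = x
        · rw [h3, h3]
        · by_cases h4 : g x = y
          · rw [h4, swap_apply_right] at h2
            rw [h4, ← h2]
          · rw [swap_apply_of_ne_of_ne h3 h4] at h2
            exact absurd (g.injective h2).symm hyx
    have h1 : orderOf g ∣ 2 := orderOf_dvd_of_pow_eq_one hsq
    rcases (Nat.dvd_prime Nat.prime_two).1 h1 with h2 | h2
    · exact orderOf_eq_one_iff.1 h2
    · rw [h2] at hodd
      exact absurd hodd (by decide)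
  by_cases hne : (Tr Q).Nonempty
  · have hlt := card_tr_lt hQ hne
    have hsurj := act_surjective hQ
    have hPN : (P : Subgroup (Perm α)) ≤ normalizer (Tr Q) := fun x hx => mem_normalizer_tr (le_normalizer hx)
    let P' : Sylow 2 (normalizer (Tr Q)) := P.subtype hPN
    let P'' : Sylow 2 (Perm (Tr Q)) := P'.mapSurjective hsurj
    have hgN : g ∈ normalizer (Tr Q) := mem_normalizer_tr hg
    have hkey := ih (Fintype.card (Tr Q)) (hcard ▸ hlt) (Tr Q) rfl P'' (act (Tr Q) ⟨g, hgN⟩) ?_ ?_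
    · intro t ht
      have h1 := congrArg (fun σ : Perm (Tr Q) => ((σ ⟨t, ht⟩ : Tr Q) : Perm α)) hkey
      exact h1
    · -- the image normalizes the image
      rw [mem_normalizer_iff]
      have hmemP' : ∀ x : normalizer (Tr Q), x ∈ (P' : Subgroup (normalizer (Tr Q))) ↔ (x : Perm α) ∈ Q :=
        fun x => Iff.rfl
      have half : ∀ k : normalizer (Tr Q), (k : Perm α) ∈ normalizer (Q : Set (Perm α)) →
          ∀ σ ∈ (P'' : Subgroup (Perm (Tr Q))), act (Tr Q) k * σ * (act (Tr Q) k)⁻¹ ∈ (P'' : Subgroup (Perm (Tr Q))) := by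
        intro k hk σ hσ
        have hσ' : σ ∈ (P' : Subgroup (normalizer (Tr Q))).map (act (Tr Q)) := hσ
        obtain ⟨x, hx, rfl⟩ := hσ'
        show _ ∈ (P' : Subgroup (normalizer (Tr Q))).map (act (Tr Q))
        refine ⟨k * x * k⁻¹, ?_, by rw [map_mul, map_mul, map_inv]⟩
        exact (mem_normalizer_iff.1 hk _).1 hx
      intro σ
      refine ⟨half _ hg σ, fun h => ?_⟩
      have h2 := half (⟨g, hgN⟩⁻¹) (inv_mem hg) _ h
      rw [map_inv] at h2
      have e : (act (Tr Q) ⟨g, hgN⟩)⁻¹ * (act (Tr Q) ⟨g, hgN⟩ * σ * (act (Tr Q) ⟨g, hgN⟩)⁻¹) *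
          (act (Tr Q) ⟨g, hgN⟩)⁻¹⁻¹ = σ := by group
      rwa [e] at h2
    · have h1 : orderOf (act (Tr Q) ⟨g, hgN⟩) ∣ orderOf (⟨g, hgN⟩ : normalizer (Tr Q)) := orderOf_map_dvd _ _
      have h2 : orderOf (⟨g, hgN⟩ : normalizer (Tr Q)) = orderOf g := (Subgroup.orderOf_coe _).symm
      rw [h2] at h1
      exact hodd.of_dvd_nat h1
  · intro t ht
    exact absurd ⟨t, ht⟩ hne

/-- An element of odd order normalizing a Sylow `2`-subgroup of `Perm α` is trivial. -/
theorem perm_eq_one (P : Sylow 2 (Perm α)) {g : Perm α}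
    (hg : g ∈ normalizer ((P : Subgroup (Perm α)) : Set (Perm α))) (hodd : Odd (orderOf g)) : g = 1 :=
  perm_eq_one_aux _ α rfl P g hg hodd

/-- **A Sylow `2`-subgroup of a finite symmetric group is its own normalizer.** -/
theorem normalizer_perm (P : Sylow 2 (Perm α)) :
    normalizer ((P : Subgroup (Perm α)) : Set (Perm α)) = (P : Subgroup (Perm α)) := by
  haveI : Fact (Nat.Prime 2) := ⟨Nat.prime_two⟩
  refine le_antisymm (normalizer_le_of P fun g hg h => perm_eq_one P hg ?_) le_normalizer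
  exact (Nat.coprime_two_right.1 h)

end Sym

/-! ### Alternating groups -/

section Alt

variable {α : Type*} [Fintype α] [DecidableEq α]

/-- three disjoint transpositions of a Sylow `2`-subgroup -/
theorem exists_three (h6 : 6 ≤ Fintype.card α) (P : Sylow 2 (Perm α)) :
    ∃ a b c d e f : α, ([a, b, c, d, e, f] : List α).Nodup ∧ swap a b ∈ (P : Subgroup (Perm α)) ∧
      swap c d ∈ (P : Subgroup (Perm α)) ∧ swap e f ∈ (P : Subgroup (Perm α)) := by
  have hQ : IsPGroup 2 (P : Subgroup (Perm α)) := P.2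
  -- a new pair outside a set of at most four points closed under pairing
  have key : ∀ s : Finset α, s.card ≤ 4 → (∀ x ∈ s, ∃ y ∈ s, y ≠ x ∧ swap x y ∈ (P : Subgroup (Perm α))) →
      ∃ a b : α, a ≠ b ∧ a ∉ s ∧ b ∉ s ∧ swap a b ∈ (P : Subgroup (Perm α)) := by
    intro s hs hcl
    have h1 : 1 < (Finset.univ \ s).card := by
      have := Finset.card_sdiff_add_card_inter (Finset.univ : Finset α) s
      rw [Finset.univ_inter, Finset.card_univ] at this
      omega
    obtain ⟨x, hx, y, hy, hxy⟩ := Finset.one_lt_card.1 h1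
    have hx' : x ∉ s := (Finset.mem_sdiff.1 hx).2
    have hy' : y ∉ s := (Finset.mem_sdiff.1 hy).2
    have out : ∀ {a c : α}, a ∉ s → c ≠ a → swap a c ∈ (P : Subgroup (Perm α)) → c ∉ s := by
      intro a c ha hca hm hc
      obtain ⟨w, hw, hwc, hm'⟩ := hcl c hc
      rw [swap_comm] at hm
      have := eq_of_swap_mem hQ hca hwc.symm hm hm'
      exact ha (this ▸ hw)
    rcases exists_pair P hxy with ⟨c, hc, hm⟩ | ⟨c, hc, hm⟩
    · exact ⟨x, c, hc.symm, hx', out hx' hc hm, hm⟩
    · exact ⟨y, c, hc.symm, hy', out hy' hc hm, hm⟩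
  obtain ⟨a, b, hab, -, -, h1⟩ := key ∅ (by simp) (by simp)
  obtain ⟨c, d, hcd, hc, hd, h2⟩ := key {a, b} ((Finset.card_le_two).trans (by norm_num)) (by
    intro x hx
    rw [Finset.mem_insert, Finset.mem_singleton] at hx
    rcases hx with rfl | rfl
    · exact ⟨b, by simp, hab.symm, h1⟩
    · exact ⟨a, by simp, hab, by rw [swap_comm]; exact h1⟩)
  obtain ⟨e, f, hef, he, hf, h3⟩ := key {a, b, c, d} Finset.card_le_four (by
    intro x hx
    simp only [Finset.mem_insert, Finset.mem_singleton] at hx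
    rcases hx with rfl | rfl | rfl | rfl
    · exact ⟨b, by simp, hab.symm, h1⟩
    · exact ⟨a, by simp, hab, by rw [swap_comm]; exact h1⟩
    · exact ⟨d, by simp, hcd.symm, h2⟩
    · exact ⟨c, by simp, hcd, by rw [swap_comm]; exact h2⟩)
  refine ⟨a, b, c, d, e, f, ?_, h1, h2, h3⟩
  simp only [Finset.mem_insert, Finset.mem_singleton, not_or] at hc hd he hf
  simp only [List.nodup_cons, List.mem_cons, List.not_mem_nil, or_false, not_or, List.nodup_nil, and_true,
    not_false_eq_true]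
  exact ⟨⟨hab, Ne.symm hc.1, Ne.symm hd.1, Ne.symm he.1, Ne.symm hf.1⟩,
    ⟨Ne.symm hc.2, Ne.symm hd.2, Ne.symm he.2.1, Ne.symm hf.2.1⟩,
    ⟨hcd, Ne.symm he.2.2.1, Ne.symm hf.2.2.1⟩, ⟨Ne.symm he.2.2.2, Ne.symm hf.2.2.2⟩, hef⟩

/-- a transposition which is a factor of two double transpositions of `P` lies in `P` -/
theorem swap_mem_of_two (P : Sylow 2 (Perm α)) {a b c d e f : α} (hn : ([a, b, c, d, e, f] : List α).Nodup)
    (h1 : swap a b * swap c d ∈ (P : Subgroup (Perm α))) (h2 : swap a b * swap e f ∈ (P : Subgroup (Perm α))) :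
    swap a b ∈ (P : Subgroup (Perm α)) := by
  have hQ : IsPGroup 2 (P : Subgroup (Perm α)) := P.2
  simp only [List.nodup_cons, List.mem_cons, List.not_mem_nil, or_false, not_or, List.nodup_nil, and_true,
    not_false_eq_true] at hn
  obtain ⟨⟨hab, hac, had, hae, haf⟩, ⟨hbc, hbd, hbe, hbf⟩, ⟨hcd, hce, hcf⟩, ⟨hde, hdf⟩, hef⟩ := hn
  -- `a` is paired
  have ha : ¬ Unp (P : Subgroup (Perm α)) a := by
    intro h
    have h3 := unp_conj (le_normalizer h1) h
    rw [Perm.mul_apply, swap_apply_of_ne_of_ne hac had, swap_apply_left] at h3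
    exact hab (unp_unique P h h3)
  simp only [Unp, not_forall, not_not] at ha
  obtain ⟨x, hxa, hm⟩ := ha
  by_cases hxb : x = b
  · rwa [hxb] at hm
  exfalso
  have gen : ∀ {u v : α}, a ≠ u → a ≠ v → swap a b * swap u v ∈ (P : Subgroup (Perm α)) → x = u ∨ x = v := by
    intro u v hau hav hm'
    by_contra hx
    push Not at hx
    have h3 := mul_mem (mul_mem hm' hm) (inv_mem hm')
    rw [conj_swap, Perm.mul_apply, swap_apply_of_ne_of_ne hau hav, swap_apply_left, Perm.mul_apply,
      swap_apply_of_ne_of_ne hx.1 hx.2, swap_apply_of_ne_of_ne hxa hxb] at h3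
    rw [swap_comm] at h3 hm
    exact hab (eq_of_swap_mem hQ hxa hxb hm h3)
  have h3 := gen hac had h1
  have h4 := gen hae haf h2
  rcases h3 with rfl | rfl
  · rcases h4 with h5 | h5
    · exact hce h5
    · exact hcf h5
  · rcases h4 with h5 | h5
    · exact hde h5
    · exact hdf h5

/-- **A Sylow `2`-subgroup of the alternating group of a set with at least six elements is its own normalizer.** -/
theorem normalizer_alt (h6 : 6 ≤ Fintype.card α) (P : Sylow 2 (alternatingGroup α)) :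
    normalizer ((P : Subgroup (alternatingGroup α)) : Set (alternatingGroup α)) =
      (P : Subgroup (alternatingGroup α)) := by
  haveI : Fact (Nat.Prime 2) := ⟨Nat.prime_two⟩
  refine le_antisymm ?_ le_normalizer
  intro g hg
  have hP0 : IsPGroup 2 ((P : Subgroup (alternatingGroup α)).map (alternatingGroup α).subtype) := P.2.map _
  obtain ⟨Q, hQ⟩ := hP0.exists_le_sylow
  -- `Q ∩ A = P`
  have hQP : ∀ x : alternatingGroup α, (x : Perm α) ∈ (Q : Subgroup (Perm α)) ↔
      x ∈ (P : Subgroup (alternatingGroup α)) := by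
    have h1 : (P : Subgroup (alternatingGroup α)) ≤ (Q : Subgroup (Perm α)).comap (alternatingGroup α).subtype :=
      fun x hx => hQ ⟨x, hx, rfl⟩
    have h2 : IsPGroup 2 ((Q : Subgroup (Perm α)).comap (alternatingGroup α).subtype) :=
      Q.2.comap_of_injective _ (alternatingGroup α).subtype_injective
    have h3 := P.3 h2 h1
    intro x
    rw [← h3]
    exact Iff.rfl
  obtain ⟨a, b, c, d, e, f, hn, m1, m2, m3⟩ := exists_three h6 Q
  have hn' := hn
  simp only [List.nodup_cons, List.mem_cons, List.not_mem_nil, or_false, not_or, List.nodup_nil, and_true,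
    not_false_eq_true] at hn'
  obtain ⟨⟨hab, hac, had, hae, haf⟩, ⟨hbc, hbd, hbe, hbf⟩, ⟨hcd, hce, hcf⟩, ⟨hde, hdf⟩, hef⟩ := hn'
  -- conjugation by `g` of the even elements of `Q`
  have heven : ∀ q ∈ (Q : Subgroup (Perm α)), q ∈ alternatingGroup α →
      (g : Perm α) * q * (g : Perm α)⁻¹ ∈ (Q : Subgroup (Perm α)) := by
    intro q hq hqA
    have h1 : (⟨q, hqA⟩ : alternatingGroup α) ∈ (P : Subgroup (alternatingGroup α)) := (hQP _).1 hq
    have h2 := (mem_normalizer_iff.1 hg _).1 h1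
    exact (hQP _).2 h2
  have hdbl : ∀ {u v : α}, u ≠ v → swap a b * swap u v ∈ alternatingGroup α := by
    intro u v huv
    rw [Perm.mem_alternatingGroup, Perm.sign_mul, Perm.sign_swap hab, Perm.sign_swap huv]
    norm_num
  have e1 := heven _ (mul_mem m1 m2) (hdbl hcd)
  have e2 := heven _ (mul_mem m1 m3) (hdbl hef)
  have hconj : ∀ s t : Perm α, (g : Perm α) * (s * t) * (g : Perm α)⁻¹ =
      ((g : Perm α) * s * (g : Perm α)⁻¹) * ((g : Perm α) * t * (g : Perm α)⁻¹) := fun s t => by group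
  rw [hconj, conj_swap, conj_swap] at e1 e2
  have hn2 : ([(g : Perm α) a, (g : Perm α) b, (g : Perm α) c, (g : Perm α) d, (g : Perm α) e, (g : Perm α) f] :
      List α).Nodup := by
    have := hn.map (f := (g : Perm α)) (g : Perm α).injective
    simpa using this
  have h3 := swap_mem_of_two Q hn2 e1 e2
  rw [← conj_swap] at h3
  have hall : ∀ q ∈ (Q : Subgroup (Perm α)), (g : Perm α) * q * (g : Perm α)⁻¹ ∈ (Q : Subgroup (Perm α)) := by
    intro q hq
    by_cases hqA : q ∈ alternatingGroup α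
    · exact heven q hq hqA
    · have h4 : swap a b * q ∈ alternatingGroup α := by
        rw [Perm.mem_alternatingGroup, Perm.sign_mul, Perm.sign_swap hab]
        rcases Int.units_eq_one_or (Perm.sign q) with h5 | h5
        · exact absurd (Perm.mem_alternatingGroup.2 h5) hqA
        · rw [h5]; norm_num
      have h5 := heven _ (mul_mem m1 hq) h4
      rw [hconj] at h5
      have h6 := mul_mem (inv_mem h3) h5
      rwa [← mul_assoc, inv_mul_cancel, one_mul] at h6
  have hgQ : (g : Perm α) ∈ normalizer ((Q : Subgroup (Perm α)) : Set (Perm α)) := by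
    rw [mem_normalizer_iff_map_conj_eq]
    have h4 : (Q : Subgroup (Perm α)).map (MulAut.conj (g : Perm α)).toMonoidHom ≤ (Q : Subgroup (Perm α)) := by
      rintro _ ⟨q, hq, rfl⟩
      exact hall q hq
    refine Subgroup.eq_of_le_of_card_ge h4 ?_
    exact (Nat.card_congr ((Q : Subgroup (Perm α)).equivMapOfInjective _
      (MulAut.conj (g : Perm α)).injective).toEquiv).le
  rw [normalizer_perm Q] at hgQ
  exact (hQP g).1 hgQ

end Alt

end Cfsg.Agent.H799.SymSyl
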