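import Cfsg.Agent.H763.OverS
import Cfsg.Agent.H802.FusGroup
import Cfsg.Agent.ClosedTwo.Row

/-!
# Simplicity of the 2-fusion system of a group all of whose strongly closed 2-subgroups are known (helper799)

* `isStronglyClosed_of` : strongly closed in the fusion system of the group = strongly closed in the group;
* `isSimple_of_row` : `ClosedRow G`, `S ≠ 1` and the generation condition of `H763.isSimple_of_gen` give simplicity;
* `isSimple_of_self` : the case `N_G(S) = S`;
* `isSimple_of_one` : the case `N_G(S)` contained in the group generated by the `N_G(V)`-conjugates of `S`, for one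
  `V` normal in `S` with `C_G(V) ≤ V`.
-/

set_option autoImplicit false

namespace Cfsg.Agent.H799

open Cfsg Cfsg.FusionSystem Cfsg.Agent.ClosedTwo

variable {G : Type*} [Group G]

theorem isStronglyClosed_of {S D : Subgroup G} (h : (groupFusionSystem S).StronglyClosed D) :
    IsStronglyClosed D S := by
  refine ⟨h.1, fun x hx g hg => ?_⟩
  have hle : Subgroup.zpowers x ≤ D := by
    rw [Subgroup.zpowers_le]; exact hx
  have hm : conjHom (Subgroup.zpowers x) g ∈ (groupFusionSystem S).Hom (Subgroup.zpowers x) := by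
    refine H763.conjHom_mem_group (hle.trans h.1) ?_
    rintro _ ⟨n, rfl⟩
    have e : g * x ^ n * g⁻¹ = (g * x * g⁻¹) ^ n := by rw [conj_zpow]
    show g * x ^ n * g⁻¹ ∈ S
    rw [e]
    exact S.zpow_mem hg n
  exact h.2 _ hle _ hm ⟨x, Subgroup.mem_zpowers x⟩

theorem isSimple_of_row [Finite G] (hc : ClosedRow G) (S : Sylow 2 G) (hS1 : (S : Subgroup G) ≠ ⊥)
    (hgen : ∀ H : Subgroup G, (S : Subgroup G) ≤ H →
      (∀ V : Subgroup G, V ≤ (S : Subgroup G) → (S : Subgroup G) ≤ Subgroup.normalizer (V : Set G) →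
        Subgroup.centralizer (V : Set G) ≤ V →
        ∀ t ∈ Subgroup.normalizer ((S : Subgroup G) : Set G), t ∈ Subgroup.closure
          {x | ∃ n ∈ Subgroup.normalizer (V : Set G), ∃ s ∈ (S : Subgroup G), x = n * s * n⁻¹} → t ∈ H) →
      Subgroup.normalizer ((S : Subgroup G) : Set G) ≤ H) :
    (groupFusionSystem (S : Subgroup G)).IsSimple 2 := by
  have : Fact (Nat.Prime 2) := ⟨Nat.prime_two⟩
  exact H763.isSimple_of_gen S.2 (H802.groupFusionSystem_isSaturated S) hS1
    (fun D hD => hc S D (isStronglyClosed_of hD)) hgen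

theorem isSimple_of_self [Finite G] (hc : ClosedRow G) (S : Sylow 2 G) (hS1 : (S : Subgroup G) ≠ ⊥)
    (hN : Subgroup.normalizer ((S : Subgroup G) : Set G) ≤ (S : Subgroup G)) :
    (groupFusionSystem (S : Subgroup G)).IsSimple 2 :=
  isSimple_of_row hc S hS1 fun _ hH _ => hN.trans hH

theorem isSimple_of_one [Finite G] (hc : ClosedRow G) (S : Sylow 2 G) (hS1 : (S : Subgroup G) ≠ ⊥)
    {V : Subgroup G} (hV : V ≤ (S : Subgroup G)) (hSV : (S : Subgroup G) ≤ Subgroup.normalizer (V : Set G))
    (hCV : Subgroup.centralizer (V : Set G) ≤ V)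
    (hN : Subgroup.normalizer ((S : Subgroup G) : Set G) ≤ Subgroup.closure
      {x | ∃ n ∈ Subgroup.normalizer (V : Set G), ∃ s ∈ (S : Subgroup G), x = n * s * n⁻¹}) :
    (groupFusionSystem (S : Subgroup G)).IsSimple 2 :=
  isSimple_of_row hc S hS1 fun _ _ hH => fun t ht => hH V hV hSV hCV t ht (hN ht)

end Cfsg.Agent.H799
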