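import Cfsg.Agent.H747.RowTwo
import Cfsg.Agent.Mrg.Omega.TwoF.RowJ1
import Cfsg.Agent.S1073
import Cfsg.Agent.S1152
import Cfsg.Agent.S1157

/-!
# S5161: the rows of `²G₂(q)` and `J₁` (helper799): abelian Sylow 2-subgroups
-/

set_option autoImplicit false

namespace Cfsg.Agent.H799.RowsTwoA

open Subgroup Cfsg Cfsg.Agent.H747

theorem comm_of_sq {K : Type*} [Group K] {T : Subgroup K} (h : ∀ x ∈ T, x * x = 1) :
    ∀ x ∈ T, ∀ y ∈ T, x * y = y * x := by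
  intro x hx y hy
  have h1 := h _ (mul_mem hx hy)
  have h2 := h x hx
  have h3 := h y hy
  calc x * y = x * (x * y * (x * y)) * y := by rw [h1, mul_one]
    _ = (x * x) * (y * x) * (y * y) := by group
    _ = y * x := by rw [h2, h3, one_mul, mul_one]

/-- **Row `²G₂(q)`** -/
theorem row_ree {K : Type*} [Group K] (h : Lie.IsoRee K) : RowTwo K := by
  obtain ⟨F, _, _, m, hm, hF, ⟨e⟩⟩ := h
  obtain ⟨a, haH, ha1, ha2⟩ := Cfsg.Agent.S1157.exists_involution hF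
  obtain ⟨-, hS⟩ := Cfsg.Agent.S1152.result hF a haH ha1 ha2
  obtain ⟨Q⟩ : Nonempty (Sylow 2 ↥(Cfsg.Lie.twistedG2 F (3 ^ m))) := inferInstance
  refine RowTwo.congr e.symm (Or.inr (NormRow.of_comm Q (comm_of_sq fun x hx => ?_)))
  exact (hS Q).2 x hx

/-- **Row `J₁`** -/
theorem row_j1 {K : Type*} [Group K] (h : Spor.IsoJ1 K) : RowTwo K := by
  obtain ⟨e⟩ := h
  have hJ : Nat.card Spor.J1 = 175560 := Cfsg.Agent.SporadicB.J1.Main.isJ1.2
  have hfin0 : Finite Spor.J1 := Nat.finite_of_card_ne_zero (by rw [hJ]; norm_num)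
  obtain ⟨Q⟩ : Nonempty (Sylow 2 Spor.J1) := inferInstance
  have h3 := Cfsg.Agent.UGT.EndJ1.Data.bal.syl Q
  exact RowTwo.congr e.symm (Or.inr (NormRow.of_comm Q (comm_of_sq h3.2)))

end Cfsg.Agent.H799.RowsTwoA
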