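import Cfsg.Agent.H747.RowTwo
import Cfsg.Agent.QTNorm.Main
import Cfsg.Agent.QTNorm.SporM12
import Cfsg.Agent.QTNorm.SporM22S
import Cfsg.Agent.QTNorm.SporJ4
import Cfsg.Agent.H868.SelfN23
import Cfsg.Agent.H799.JTwoThree
import Cfsg.Agent.H799.MTSyl
import Cfsg.Agent.TypeM.FactsMcL
import Cfsg.Agent.TypeM.FactsLy
import Cfsg.Agent.Schreier.JThreeSylow
import Cfsg.Agent.S1619

/-!
# S5161: the rows of the Mathieu groups, `J₂`, `J₃`, `McL` and `Ly` (helper799)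
-/

set_option autoImplicit false

namespace Cfsg.Agent.H799.RowsTwoB

open Subgroup Cfsg Cfsg.Agent.H747 Cfsg.Agent.QTNorm

theorem row_of_selfN {K : Type*} [Group K] (h : SelfN K) : RowTwo K := by
  obtain ⟨T⟩ : Nonempty (Sylow 2 K) := inferInstance
  exact Or.inl (OddRow.of_self T (h T))

theorem row_of_phi {K : Type*} [Group K] (T : Sylow 2 K) (h : JSheet.Phi (T : Subgroup K)) : RowTwo K := by
  obtain ⟨V, h1, h2, h3, h4⟩ := h
  refine Or.inl (OddRow.of_one T h1 h2 (inf_le_right.trans h3) fun g hg => ⟨1, one_mem _, ?_⟩)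
  rw [mul_one]
  have h5 : closure {x | ∃ n ∈ normalizer (V : Set K), ∃ s ∈ (T : Subgroup K), x = n * s * n⁻¹} ≤ twoGen V := by
    rw [closure_le]
    rintro _ ⟨n, hn, s, hs, rfl⟩
    refine subset_closure ⟨mul_mem (mul_mem hn (h2 hs)) (inv_mem hn), ?_⟩
    obtain ⟨k, hk⟩ := T.2 ⟨s, hs⟩
    refine ⟨k, ?_⟩
    have h6 : s ^ 2 ^ k = 1 := congrArg Subtype.val hk
    rw [conj_pow, h6]
    group
  exact h5 (h4 hg)

theorem row_m11 {K : Type*} [Group K] (h : Spor.IsoM11 K) : RowTwo K := row_of_selfN (selfN_m11 h)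

theorem row_m12 {K : Type*} [Group K] (h : Spor.IsoM12 K) : RowTwo K := row_of_selfN (selfN_m12 h)

theorem row_m22 {K : Type*} [Group K] (h : Spor.IsoM22 K) : RowTwo K := by
  obtain ⟨e⟩ := h
  exact RowTwo.congr e.symm (row_of_selfN selfN_M22)

theorem row_m23 {K : Type*} [Group K] (h : Spor.IsoM23 K) : RowTwo K := by
  obtain ⟨e⟩ := h
  exact RowTwo.congr e.symm (row_of_selfN Cfsg.Agent.H868.selfN_M23)

theorem row_m24 {K : Type*} [Group K] (h : Spor.IsoM24 K) : RowTwo K := row_of_selfN (selfN_m24 h)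

theorem row_j3 {K : Type*} [Group K] (h : Spor.IsoJ3 K) : RowTwo K := by
  have hfin : Finite K := by
    obtain ⟨F, _, _, ω, hF, hω, ⟨e⟩⟩ := h
    have H := Cfsg.Agent.J3.Core.good_of_card hF hω
    have hc := Cfsg.Agent.J3.Simple.card_J3 hF H
    have : Finite (Cfsg.Spor.J3 F ω) := Nat.finite_of_card_ne_zero (by rw [hc]; norm_num)
    exact Finite.of_equiv _ e.symm.toEquiv
  obtain ⟨z, Q, v, ρ, M, hc, -, hs'⟩ := Cfsg.Agent.Foote.Row.JThree.sheet' K h
  obtain ⟨S, hS, -⟩ := JSheet.phi_of_model hc M (Cfsg.Agent.Foote.Cor.of_sheetE hs')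
  exact row_of_phi S hS

theorem row_j2 {K : Type*} [Group K] (h : Spor.IsoJ2 K) : RowTwo K := by
  have hfin : Finite K := by
    obtain ⟨e⟩ := h
    have : Finite Spor.J2 := Nat.finite_of_card_ne_zero (by rw [Cfsg.Agent.S1619.result.2.2.2]; norm_num)
    exact Finite.of_equiv _ e.symm.toEquiv
  obtain ⟨z, Q, v, ρ, M, hc, hs⟩ := JTwoThree.cor_jtwo h
  obtain ⟨S, hS, -⟩ := JSheet.phi_of_model hc M hs
  exact row_of_phi S hS

theorem row_mcl {K : Type*} [Group K] (h : Spor.IsoMcL K) : RowTwo K := by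
  obtain ⟨hf, hs, -, ⟨L⟩⟩ := Cfsg.Agent.TypeM.FactsMcL.facts h
  exact row_of_selfN fun T => MTSyl.normalizer_le (by norm_num) (by norm_num) L T

theorem row_ly {K : Type*} [Group K] (h : Spor.IsoLy K) : RowTwo K := by
  obtain ⟨hf, hs, -, ⟨L⟩⟩ := Cfsg.Agent.TypeM.FactsLy.facts h
  exact row_of_selfN fun T => MTSyl.normalizer_le (by norm_num) (by norm_num) L T

end Cfsg.Agent.H799.RowsTwoB
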