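import Cfsg.Agent.Foote.Row.JThree
import Cfsg.Agent.ClosedTwo.Alt
import Cfsg.Agent.Foote.Bridge
import Cfsg.Agent.H799.Glue

/-!
# `J2`, `J3`: the 2-fusion system is simple (helper799)

`C(z) = P`, `R = O_2(P) = 2_-^{1+4}`, `P/R = A_5`. The strongly closed subgroups of a Sylow subgroup are trivial or the
whole Sylow subgroup (by `Foote.cr_of_sheet` with `L = A_5`), and `N(S) ≤ C(z)` is contained in the group generated by
the `P`-conjugates of `S`, which is `P`.
-/

set_option autoImplicit false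
set_option linter.style.haveILetI false

namespace Cfsg.Agent.H799.JSheet

open Subgroup Cfsg Cfsg.Agent.OddHalf.D8.Sheet Cfsg.Agent.J3Type.OneClass Cfsg.Agent.J2Type.Model
open Cfsg.Agent.J2Type.CStruct Cfsg.Agent.KFacts Cfsg.Agent.Foote
open Cfsg.Agent.Foote.Row.JThree

universe u

open scoped commutatorElement

/-! ### A condition on one Sylow subgroup -/

section Phi

variable {G : Type*} [Group G]

/-- `N_G(S)` lies in the group generated by the `N_G(V)`-conjugates of `S`, for some `V` normal in `S` with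
`C_G(V) ≤ V`. -/
def Phi (S : Subgroup G) : Prop :=
  ∃ V : Subgroup G, V ≤ S ∧ S ≤ normalizer (V : Set G) ∧ centralizer (V : Set G) ≤ V ∧
    normalizer (S : Set G) ≤ closure {x | ∃ n ∈ normalizer (V : Set G), ∃ s ∈ S, x = n * s * n⁻¹}

theorem Phi.conj {S : Subgroup G} (h : Phi S) (g : G) : Phi (S.map (MulAut.conj g).toMonoidHom) := by
  obtain ⟨V, h1, h2, h3, h4⟩ := h
  have hmem : ∀ (A : Subgroup G) (x : G), x ∈ A.map (MulAut.conj g).toMonoidHom ↔ g⁻¹ * x * g ∈ A := by
    intro A x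
    constructor
    · rintro ⟨a, ha, rfl⟩
      have e : g⁻¹ * (g * a * g⁻¹) * g = a := by group
      show g⁻¹ * (g * a * g⁻¹) * g ∈ A
      rw [e]; exact ha
    · intro hx
      exact ⟨_, hx, by show g * (g⁻¹ * x * g) * g⁻¹ = x; group⟩
  have hnor : ∀ (A : Subgroup G) (x : G), x ∈ normalizer ((A.map (MulAut.conj g).toMonoidHom : Subgroup G) : Set G) ↔
      g⁻¹ * x * g ∈ normalizer (A : Set G) := by
    intro A x
    constructor
    · intro hx
      rw [mem_normalizer_iff] at hx ⊢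
      intro a
      have h5 := hx (g * a * g⁻¹)
      rw [hmem, hmem] at h5
      have e1 : g⁻¹ * (g * a * g⁻¹) * g = a := by group
      have e2 : g⁻¹ * (x * (g * a * g⁻¹) * x⁻¹) * g = g⁻¹ * x * g * a * (g⁻¹ * x * g)⁻¹ := by group
      rwa [e1, e2] at h5
    · intro hx
      rw [mem_normalizer_iff] at hx ⊢
      intro y
      rw [hmem, hmem, hx (g⁻¹ * y * g)]
      have e2 : g⁻¹ * x * g * (g⁻¹ * y * g) * (g⁻¹ * x * g)⁻¹ = g⁻¹ * (x * y * x⁻¹) * g := by group
      rw [e2]
  refine ⟨V.map (MulAut.conj g).toMonoidHom, map_mono h1, ?_, ?_, ?_⟩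
  · intro x hx
    rw [hnor]
    exact h2 ((hmem S x).1 hx)
  · intro x hx
    rw [hmem]
    apply h3
    rw [mem_centralizer_iff] at hx ⊢
    intro v hv
    have h5 := hx (g * v * g⁻¹) ((hmem V _).2 (by
      have e1 : g⁻¹ * (g * v * g⁻¹) * g = v := by group
      rw [e1]; exact hv))
    calc v * (g⁻¹ * x * g) = g⁻¹ * ((g * v * g⁻¹) * x) * g := by group
      _ = g⁻¹ * (x * (g * v * g⁻¹)) * g := by rw [h5]
      _ = g⁻¹ * x * g * v := by group
  · intro x hx
    have h5 := h4 ((hnor S x).1 hx)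
    have h6 : x ∈ (closure {x | ∃ n ∈ normalizer (V : Set G), ∃ s ∈ S, x = n * s * n⁻¹}).map
        (MulAut.conj g).toMonoidHom := (hmem _ x).2 h5
    rw [MonoidHom.map_closure] at h6
    refine closure_mono ?_ h6
    rintro _ ⟨_, ⟨n, hn, s, hs, rfl⟩, rfl⟩
    refine ⟨g * n * g⁻¹, (hnor V _).2 ?_, g * s * g⁻¹, (hmem S _).2 ?_, ?_⟩
    · have e1 : g⁻¹ * (g * n * g⁻¹) * g = n := by group
      rw [e1]; exact hn
    · have e1 : g⁻¹ * (g * s * g⁻¹) * g = s := by group
      rw [e1]; exact hs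
    · show g * (n * s * n⁻¹) * g⁻¹ = g * n * g⁻¹ * (g * s * g⁻¹) * (g * n * g⁻¹)⁻¹
      group

/-- If `Phi` holds for one Sylow subgroup, it holds for all. -/
theorem phi_all [Finite G] {p : ℕ} [Fact p.Prime] {S₀ : Sylow p G} (h : Phi (S₀ : Subgroup G)) (S : Sylow p G) :
    Phi (S : Subgroup G) := by
  obtain ⟨g, hg⟩ := MulAction.exists_smul_eq G S₀ S
  rw [← hg]
  exact h.conj g

theorem isSimple_of_phi [Finite G] (hc : Cfsg.Agent.ClosedTwo.ClosedRow G) (S : Sylow 2 G)
    (hS1 : (S : Subgroup G) ≠ ⊥) (h : Phi (S : Subgroup G)) : (groupFusionSystem (S : Subgroup G)).IsSimple 2 := by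
  obtain ⟨V, h1, h2, h3, h4⟩ := h
  exact isSimple_of_one hc S hS1 h1 h2 h3 h4

end Phi

/-! ### The sheet -/

variable {K : Type u} [Group K] {z : K} {Q : Subgroup (centralizer ({z} : Set K))}
  {v : Fin 5 → centralizer ({z} : Set K)} {ρ : centralizer ({z} : Set K) →* SP}

/-- the projection of the centralizer onto `A_5` -/
def proj (M : IsModel Q (zc z) v ρ) : centralizer ({z} : Set K) →* alternatingGroup (Fin 5) where
  toFun c := ⟨(ρ c).σ, by
    rw [Equiv.Perm.mem_alternatingGroup]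
    exact ((M.range (ρ c)).1 ⟨c, rfl⟩).1⟩
  map_one' := Subtype.ext (congrArg SP.σ (map_one ρ))
  map_mul' a b := Subtype.ext (congrArg SP.σ (map_mul ρ a b))

theorem proj_surj (M : IsModel Q (zc z) v ρ) : Function.Surjective (proj M) := by
  rintro ⟨σ, hσ⟩
  obtain ⟨c, hc⟩ := (M.range ⟨σ, fun _ => 0⟩).2 ⟨Equiv.Perm.mem_alternatingGroup.1 hσ, by simp⟩
  refine ⟨c, Subtype.ext ?_⟩
  show (ρ c).σ = σ
  rw [hc]

/-- every closed family of 2-elements is trivial or full -/
theorem cr_of_model [Finite K] (hG : _root_.commutator K = ⊤) (M : IsModel Q (zc z) v ρ)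
    (hs : Cor z (centralizer ({z} : Set K)) (Q.map (centralizer ({z} : Set K)).subtype)) : CR K := by
  refine cr_of_sheet hG hs (fun x y hx _ hx' _ => absurd (mem_centralizer_singleton_iff.2 hx) hx')
    (cr_of_closedRow Cfsg.Agent.ClosedTwo.Alt.closedRow) (proj M) (proj_surj M) ?_
  intro x _ hx
  have h1 : (ρ x).σ = 1 := congrArg Subtype.val hx
  exact ⟨x, (M.mem_Q x).2 h1, rfl⟩

theorem phi_of_model [Finite K] (hc : Nat.card (centralizer ({z} : Set K)) = 1920) (M : IsModel Q (zc z) v ρ)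
    (hs : Cor z (centralizer ({z} : Set K)) (Q.map (centralizer ({z} : Set K)).subtype)) :
    ∃ S : Sylow 2 K, Phi (S : Subgroup K) ∧ (S : Subgroup K) ≠ ⊥ := by
  haveI : Fact (Nat.Prime 2) := ⟨Nat.prime_two⟩
  obtain ⟨S, hzS, hSz, hZ⟩ := hs.syl
  obtain ⟨P, hP⟩ : ∃ P : Subgroup K, P = centralizer ({z} : Set K) := ⟨_, rfl⟩
  obtain ⟨R, hR⟩ : ∃ R : Subgroup K, R = Q.map (centralizer ({z} : Set K)).subtype := ⟨_, rfl⟩
  have hquasi : ∀ N : Subgroup K, N ≤ P → R ≤ N → (∀ p ∈ P, ∀ n ∈ N, p * n * p⁻¹ ∈ N) → ⁅N, P⁆ ≤ R ∨ N = P := by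
    rw [hP, hR]
    exact fun N => quasi M N
  have hSP : (S : Subgroup K) ≤ P := by
    intro x hx
    rw [hP]
    exact mem_centralizer_singleton_iff.2 (hSz x hx)
  have hcard : Nat.card R = 32 := by
    rw [hR]
    obtain ⟨m, -, hm, h1⟩ := card_data hc M
    have h2 : Nat.card Q = 32 := by
      have := QMinus.card_mul M
      omega
    rw [Nat.card_congr (Q.equivMapOfInjective _ (centralizer ({z} : Set K)).subtype_injective).toEquiv.symm, h2]
  rw [← hR, ← hP] at hs
  have hcP : Nat.card P = 1920 := by rw [hP]; exact hc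
  have hRn : P ≤ normalizer (R : Set K) := by
    intro x hx
    rw [mem_normalizer_iff]
    intro r
    refine ⟨hs.Rn x hx r, fun h => ?_⟩
    have h1 := hs.Rn x⁻¹ (inv_mem hx) _ h
    have e : x⁻¹ * (x * r * x⁻¹) * x⁻¹⁻¹ = r := by group
    rwa [e] at h1
  -- `R ≤ S`
  have hRS : R ≤ (S : Subgroup K) := by
    have h1 : IsPGroup 2 (R ⊔ (S : Subgroup K) : Subgroup K) := by
      have h2 : (S : Subgroup K) ≤ normalizer (R : Set K) := hSP.trans hRn
      exact hs.R2.to_sup_of_normal_left' S.2 h2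
    have h3 := S.3 h1 le_sup_right
    rw [← h3]; exact le_sup_left
  have hCR : centralizer (R : Set K) ≤ R := by
    intro x hx
    rw [mem_centralizer_iff] at hx
    have hxz : x ∈ P := by
      rw [hP]
      exact mem_centralizer_singleton_iff.2 (hx z hs.zR).symm
    exact hs.cR x hxz fun r hr => (hx r hr).symm
  refine ⟨S, ⟨R, hRS, hSP.trans hRn, hCR, ?_⟩, ?_⟩
  · -- the normalizer of `S` centralizes `z`
    have hNP : normalizer ((S : Subgroup K) : Set K) ≤ P := by
      intro g hg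
      have h1 : g * z * g⁻¹ ∈ (S : Subgroup K) := (mem_normalizer_iff.1 hg z).1 hzS
      have h2 : ∀ x ∈ S, x * (g * z * g⁻¹) = (g * z * g⁻¹) * x := by
        intro x hx
        have h3 : g⁻¹ * x * g ∈ (S : Subgroup K) := by
          have := (mem_normalizer_iff.1 (inv_mem hg) x).1 hx
          rwa [inv_inv] at this
        have h4 := hSz _ h3
        calc x * (g * z * g⁻¹) = g * ((g⁻¹ * x * g) * z) * g⁻¹ := by group
          _ = g * (z * (g⁻¹ * x * g)) * g⁻¹ := by rw [h4]
          _ = _ := by group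
      rcases hZ _ h1 h2 with h3 | h3
      · exfalso
        apply hs.z1
        have e : z = g⁻¹ * (g * z * g⁻¹) * g := by group
        rw [e, h3]; group
      · rw [hP, mem_centralizer_singleton_iff]
        exact mul_inv_eq_iff_eq_mul.1 h3
    refine hNP.trans ?_
    -- the group generated by the conjugates
    set N : Subgroup K := closure {x | ∃ n ∈ normalizer (R : Set K), ∃ s ∈ (S : Subgroup K), x = n * s * n⁻¹} ⊓ P with hN
    have hSN : (S : Subgroup K) ≤ N := by
      intro s hs'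
      refine ⟨subset_closure ⟨1, one_mem _, s, hs', by group⟩, hSP hs'⟩
    have hnN : ∀ p ∈ P, ∀ n ∈ N, p * n * p⁻¹ ∈ N := by
      rintro p hp n ⟨hn, hnP⟩
      refine ⟨?_, P.mul_mem (P.mul_mem hp hnP) (P.inv_mem hp)⟩
      have h1 : p * n * p⁻¹ ∈ (closure {x | ∃ n ∈ normalizer (R : Set K), ∃ s ∈ (S : Subgroup K),
          x = n * s * n⁻¹}).map (MulAut.conj p).toMonoidHom := ⟨n, hn, rfl⟩
      rw [MonoidHom.map_closure] at h1
      refine closure_mono ?_ h1
      rintro _ ⟨_, ⟨m, hm, s, hs', rfl⟩, rfl⟩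
      exact ⟨p * m, mul_mem (hRn hp) hm, s, hs', by
        show p * (m * s * m⁻¹) * p⁻¹ = p * m * s * (p * m)⁻¹
        group⟩
    rcases hquasi N inf_le_right (hRS.trans hSN) hnN with h1 | h1
    · exfalso
      -- then `S` is normal in `P`, so `S ≤ R`
      have h2 : (S : Subgroup K) ≤ R := by
        refine hs.Rmax (S : Subgroup K) hSP S.2 ?_
        intro x hx b hb
        have h3 : ⁅b, x⁆ ∈ R := h1 (commutator_mem_commutator (hSN hb) hx)
        have h4 : x * b * x⁻¹ = (b⁻¹ * ⁅b, x⁆)⁻¹ := by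
          rw [commutatorElement_def]; group
        rw [h4]
        exact (S : Subgroup K).inv_mem ((S : Subgroup K).mul_mem ((S : Subgroup K).inv_mem hb) (hRS h3))
      have h5 : Nat.card (S : Subgroup K) ∣ 32 := hcard ▸ card_dvd_of_le h2
      have h6 : 2 ^ 7 ∣ Nat.card (S : Subgroup K) := by
        have h7 : 2 ^ 7 ∣ Nat.card K := by
          have h8 : Nat.card P ∣ Nat.card K := card_subgroup_dvd_card P
          rw [hcP] at h8
          exact (by norm_num : 2 ^ 7 ∣ 1920).trans h8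
        exact S.pow_dvd_card_of_pow_dvd_card h7
      have h9 := Nat.le_of_dvd (by norm_num) (h6.trans h5)
      norm_num at h9
    · rw [← h1]; exact inf_le_left
  · intro h
    rw [h, le_bot_iff] at hRS
    rw [hRS, card_bot] at hcard
    norm_num at hcard

/-- **Simplicity of the 2-fusion system from the sheet.** -/
theorem isSimple_of_model [Finite K] (hG : _root_.commutator K = ⊤)
    (hc : Nat.card (centralizer ({z} : Set K)) = 1920) (M : IsModel Q (zc z) v ρ)
    (hs : Cor z (centralizer ({z} : Set K)) (Q.map (centralizer ({z} : Set K)).subtype)) (S : Sylow 2 K) :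
    (groupFusionSystem (S : Subgroup K)).IsSimple 2 := by
  haveI : Fact (Nat.Prime 2) := ⟨Nat.prime_two⟩
  obtain ⟨S₀, h1, h2⟩ := phi_of_model hc M hs
  refine isSimple_of_phi (cr_of_model hG M hs).closedRow S ?_ (phi_all h1 S)
  intro h
  apply h2
  have h3 : Nat.card (S₀ : Subgroup K) = Nat.card (S : Subgroup K) := by
    rw [S₀.card_eq_multiplicity, S.card_eq_multiplicity]
  rw [h, card_bot] at h3
  exact card_eq_one.1 h3

end Cfsg.Agent.H799.JSheet
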